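import Cfsg.Agent.H746.EK.Num
import Cfsg.Agent.H758.EPX.TK
import Cfsg.Agent.H59.EP.CountG
import Cfsg.Agent.Schreier.Assembly

/-!
# S5745, section 4: the bound (TK) with the crude count of the `LocK` subgroups (helper746)
-/

set_option autoImplicit false

namespace Cfsg.Agent.H746.EK

open Subgroup Cfsg.Agent.H284 Cfsg.Agent.H209.EPX Cfsg.Agent.H59.EP Cfsg.Agent.H273.EPU

theorem mem_normalizer_of {L : Type*} [Group L] [Finite L] {X : Subgroup L} {b : L} (h : ∀ k ∈ X, b * k * b⁻¹ ∈ X) :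
    b ∈ normalizer (X : Set L) := by
  have h1 : X.map (MulAut.conj b).toMonoidHom = X := by
    apply Subgroup.eq_of_le_of_card_ge
    · rintro _ ⟨k, hk, rfl⟩
      exact h k hk
    · exact (Nat.card_congr (X.equivMapOfInjective _ (MulAut.conj b).injective).toEquiv).le
  rw [mem_normalizer_iff]
  intro k
  refine ⟨h k, fun hk => ?_⟩
  have hk' : b * k * b⁻¹ ∈ X := hk
  rw [← h1] at hk'
  obtain ⟨y, hy, e⟩ := hk'
  have e' : b * y * b⁻¹ = b * k * b⁻¹ := e
  have : y = k := mul_left_cancel (mul_right_cancel e')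
  rwa [← this]

/-- the crude count of the `LocK` subgroups -/
theorem locK_le (hg : TwoGen.{0}) {T : Type} [Group T] [Finite T] (hs : IsSimpleGroup T)
    (hna : ∃ a b : T, a * b ≠ b * a) (h60 : Nat.card T < 60 ^ 61) (hok : facOk (Nat.card T) = true) :
    (LocK T \ {⊤}).ncard ≤ Lc (Nat.card T) := by
  have h1 := Cfsg.Agent.H59.EP.ncard_le_gen hg h60 (𝓜 := LocK T \ {⊤}) (c := Nat.card T / 6) ?_ ?_ ?_
  · refine h1.trans (le_of_eq ?_)
    have h2 : ∑ s ∈ (Nat.card T).primeFactors, gal s ((Nat.card T).factorization s) = gs (Nat.card T) := gs_eq hok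
    rw [h2, Lc]
  · rintro K ⟨hK, _⟩
    have h2 := Cfsg.Agent.H758.EPX.locK_card hs hna hK
    rw [Nat.le_div_iff_mul_le (by norm_num)]
    calc K.index * 6 ≤ K.index * Nat.card K := Nat.mul_le_mul_left _ h2
      _ = Nat.card T := K.index_mul_card
  · rintro K ⟨hK, _⟩
    exact hK.1
  · rintro K ⟨hK, _⟩ Y hY hY0 b hb
    exact hK.2 Y hY hY0 (mem_normalizer_of hb)

variable {G : Type} [Group G] {H N : Subgroup G} {T : Type} [Group T] {k : ℕ} {e : N ≃* (Fin k → T)}

theorem dk_le (t k : ℕ) (hk : k ≤ 5) : t ^ k ≤ 6 ^ k * Dk t k := by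
  rw [Dk, if_pos hk]
  refine le_trans ?_ (Nat.mul_le_mul_left _ (le_max_left _ _))
  have h1 : 0 < 6 ^ k := by positivity
  have := Nat.lt_mul_div_succ (t ^ k) h1
  exact this.le

/-- **(TK)** for `k ≤ 5` -/
theorem bound_five [Finite G] (hg : TwoGen.{0}) (h : EPS H N e) (hsch : Cfsg.Agent.Schreier.Basic.Sch T) (hk : k ≤ 5)
    {a : ℕ} (ha : Nat.card (MulAut T) ≤ a) (h60 : Nat.card T < 60 ^ 61) (hok : facOk (Nat.card T) = true) :
    Nat.card G ≤ Bk (Nat.card T) a k := by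
  have hfin : Finite T := Finite.of_injective _ (Cfsg.Agent.H758.EPX.inj_injective e ⟨0, h.pos⟩)
  have h1 := Cfsg.Agent.H758.EPX.EPS.tk_five h hsch hk (locK_le hg h.simple h.nab h60 hok) (dk_le (Nat.card T) k hk) (by
    rw [Dk, if_pos hk]
    exact le_max_right _ _)
  refine h1.trans ?_
  rw [Bk]
  refine Nat.mul_le_mul (Nat.add_le_add_left (Nat.mul_le_mul_right _ (Nat.add_le_add_left ?_ _)) 1) ?_
  · rw [Ik]
    exact le_trans (Nat.pow_le_pow_left (Nat.mul_le_mul_left _ ha) _) (Nat.le_add_right _ _)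
  · exact (Cfsg.Agent.H758.EPX.EPS.card_H_le h).trans (Nat.mul_le_mul_right _ (Nat.pow_le_pow_left ha _))

/-- `|T| ^ k` divides `|G|` -/
theorem pow_dvd [Finite G] (h : EPS H N e) : Nat.card T ^ k ∣ Nat.card G := by
  have hfin : Finite T := Finite.of_injective _ (Cfsg.Agent.H758.EPX.inj_injective e ⟨0, h.pos⟩)
  rw [← Cfsg.Agent.H758.EPX.card_N e]
  exact Subgroup.card_subgroup_dvd_card N

end Cfsg.Agent.H746.EK
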